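import Mathlib
import Groth.Prelude.Def_Pi1

/-!
# Normality descends along `f` with `O_Y = f_* O_X`
-/

universe u

open CategoryTheory AlgebraicGeometry TopologicalSpace Opposite

namespace NormalPushW15

variable {X : Scheme.{u}}

theorem exists_glue (W : X.Opens) (g : ∀ x : W, X.presheaf.stalk x.1)
    (h : ∀ x : W, ∃ (N : X.Opens) (_ : x.1 ∈ N) (hle : N ≤ W) (d : Γ(X, N)),
      ∀ (z : X) (hz : z ∈ N), X.presheaf.germ N z hz d = g ⟨z, hle hz⟩) :
    ∃ s : Γ(X, W), ∀ x : W, X.presheaf.germ W x.1 x.2 s = g x := by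
  choose N hxN hle d hd using h
  obtain ⟨s, hs, -⟩ := X.sheaf.existsUnique_gluing' N W (fun x => homOfLE (hle x))
    (fun x hx => Opens.mem_iSup.2 ⟨⟨x, hx⟩, hxN ⟨x, hx⟩⟩) d (fun i j => by
      refine TopCat.Presheaf.section_ext X.sheaf _ _ _ fun z hz => ?_
      exact (X.presheaf.germ_res_apply _ _ _ _).trans ((hd i z hz.1).trans ((hd j z hz.2).symm.trans
        (X.presheaf.germ_res_apply _ _ _ _).symm)))
  refine ⟨s, fun x => ?_⟩
  have h1 : X.presheaf.germ (N x) x.1 (hxN x) (d x) = g x := hd x x.1 (hxN x)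
  rw [← h1, ← hs x]
  exact (X.presheaf.germ_res_apply (homOfLE (hle x)) x.1 (hxN x) s).symm

variable [IsLocallyNoetherian X]

theorem exists_ne_zero_nhd (hdom : ∀ x : X, IsDomain (X.presheaf.stalk x)) (W : X.Opens) (s : Γ(X, W)) (x : W)
    (hx : X.presheaf.germ W x.1 x.2 s ≠ 0) :
    ∃ (N : X.Opens) (_ : x.1 ∈ N) (hle : N ≤ W), ∀ (z : X) (hz : z ∈ N), X.presheaf.germ W z (hle hz) s ≠ 0 := by
  have := hdom x.1
  obtain ⟨U, hxU, hU, hUW, hinj⟩ : ∃ (U : X.Opens) (hxU : x.1 ∈ U), IsAffineOpen U ∧ U ≤ W ∧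
      Function.Injective (X.presheaf.germ U x.1 hxU) := by
    obtain ⟨U, hxU, hU, hUW, hinj⟩ := Scheme.exists_le_and_germ_injective X x.1 W x.2
    exact ⟨U, hxU, hU, hUW, hinj⟩
  have : IsDomain Γ(X, U) := hinj.isDomain _
  refine ⟨U, hxU, hUW, fun z hz h => hx ?_⟩
  let r := X.presheaf.map (homOfLE hUW).op s
  have hr : X.presheaf.germ U z hz r = 0 := (X.presheaf.germ_res_apply _ _ _ _).trans h
  letI := X.presheaf.algebra_section_stalk ⟨z, hz⟩
  haveI : IsLocalization.AtPrime (X.presheaf.stalk z) (hU.primeIdealOf ⟨z, hz⟩).asIdeal := hU.isLocalization_stalk ⟨z, hz⟩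
  have hr0 : r = 0 := by
    refine IsLocalization.injective (X.presheaf.stalk z) (M := (hU.primeIdealOf ⟨z, hz⟩).asIdeal.primeCompl)
      (Ideal.primeCompl_le_nonZeroDivisors _) ?_
    rw [map_zero]
    exact hr
  rw [← X.presheaf.germ_res_apply (homOfLE hUW) x.1 hxU s]
  show X.presheaf.germ U x.1 hxU r = 0
  rw [hr0, map_zero]

theorem exists_eq_zero_nhd (W : X.Opens) (s : Γ(X, W)) (x : W) (hx : X.presheaf.germ W x.1 x.2 s = 0) :
    ∃ (N : X.Opens) (_ : x.1 ∈ N) (hle : N ≤ W), ∀ (z : X) (hz : z ∈ N), X.presheaf.germ W z (hle hz) s = 0 := by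
  rw [← map_zero (X.presheaf.germ W x.1 x.2).hom] at hx
  obtain ⟨N, hxN, i, j, he⟩ := X.presheaf.germ_eq x.1 x.2 x.2 _ _ hx
  refine ⟨N, hxN, i.le, fun z hz => ?_⟩
  rw [← X.presheaf.germ_res_apply i z hz s, he, X.presheaf.germ_res_apply, map_zero]

/-- the idempotent cutting out the locus where a section is non-zero -/
theorem exists_idem (hdom : ∀ x : X, IsDomain (X.presheaf.stalk x)) (W : X.Opens) (s : Γ(X, W)) :
    ∃ e : Γ(X, W), IsIdempotentElem e ∧ e * s = s ∧
      ∀ x : W, X.presheaf.germ W x.1 x.2 s = 0 → X.presheaf.germ W x.1 x.2 e = 0 := by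
  classical
  obtain ⟨e, he⟩ := exists_glue W (fun x => if X.presheaf.germ W x.1 x.2 s = 0 then 0 else 1) fun x => by
    by_cases hx : X.presheaf.germ W x.1 x.2 s = 0
    · obtain ⟨N, hxN, hle, h⟩ := exists_eq_zero_nhd W s x hx
      exact ⟨N, hxN, hle, 0, fun z hz => by rw [map_zero, if_pos (h z hz)]⟩
    · obtain ⟨N, hxN, hle, h⟩ := exists_ne_zero_nhd hdom W s x hx
      exact ⟨N, hxN, hle, 1, fun z hz => by rw [map_one, if_neg (h z hz)]⟩
  refine ⟨e, TopCat.Presheaf.section_ext X.sheaf _ _ _ fun z hz => ?_,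
    TopCat.Presheaf.section_ext X.sheaf _ _ _ fun z hz => ?_, fun x hx => by rw [he x, if_pos hx]⟩
  · show X.presheaf.germ W z hz (e * e) = X.presheaf.germ W z hz e
    rw [map_mul, he ⟨z, hz⟩]
    split_ifs <;> simp
  · show X.presheaf.germ W z hz (e * s) = X.presheaf.germ W z hz s
    rw [map_mul, he ⟨z, hz⟩]
    split_ifs with h
    · rw [h, mul_zero]
    · rw [one_mul]

/-- integral quotients of sections exist -/
theorem exists_quot (hX : Pi1.IsNormalScheme X) (W : X.Opens) (a s : Γ(X, W)) (n : ℕ) (c : ℕ → Γ(X, W))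
    (hrel : a ^ n + ∑ i ∈ Finset.range n, c i * a ^ i * s ^ (n - i) = 0) :
    ∃ e q : Γ(X, W), IsIdempotentElem e ∧ e * s = s ∧ q * s = e * a := by
  classical
  obtain ⟨e, he, hes, hez⟩ := exists_idem (fun x => (hX x).1) W s
  have hloc : ∀ x : W, ∃ y, y * X.presheaf.germ W x.1 x.2 s = X.presheaf.germ W x.1 x.2 (e * a) := by
    intro x
    by_cases hx : X.presheaf.germ W x.1 x.2 s = 0
    · exact ⟨0, by rw [zero_mul, map_mul, hez x hx, zero_mul]⟩
    haveI := (hX x.1).1
    haveI := (hX x.1).2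
    let g := (X.presheaf.germ W x.1 x.2).hom
    let K := FractionRing (X.presheaf.stalk x.1)
    let ι := algebraMap (X.presheaf.stalk x.1) K
    have hs : ι (g s) ≠ 0 := (map_ne_zero_iff _ (IsFractionRing.injective _ K)).2 hx
    have hint : IsIntegral (X.presheaf.stalk x.1) (ι (g a) / ι (g s)) := by
      refine ⟨Polynomial.X ^ n + ∑ i ∈ Finset.range n, Polynomial.C (g (c i)) * Polynomial.X ^ i,
        Polynomial.monic_X_pow_add ?_, ?_⟩
      · refine lt_of_le_of_lt (Polynomial.degree_sum_le _ _) ((Finset.sup_lt_iff (WithBot.bot_lt_coe n)).2 fun i hi => ?_)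
        exact lt_of_le_of_lt (Polynomial.degree_C_mul_X_pow_le _ _) (WithBot.coe_lt_coe.2 (Finset.mem_range.1 hi))
      · have h := congrArg (fun t => ι (g t) / ι (g s) ^ n) hrel
        simp only [map_add, map_pow, map_sum, map_mul, map_zero, zero_div, add_div, Finset.sum_div] at h
        rw [← Polynomial.aeval_def]
        simp only [map_add, map_pow, map_sum, map_mul, Polynomial.aeval_X, Polynomial.aeval_C]
        rw [← h, div_pow]
        congr 1
        refine Finset.sum_congr rfl fun i hi => ?_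
        have hi' := (Finset.mem_range.1 hi).le
        obtain ⟨j, rfl⟩ : ∃ j, n = i + j := ⟨n - i, by omega⟩
        rw [Nat.add_sub_cancel_left, div_pow, pow_add]
        simp only [div_eq_mul_inv, mul_inv]
        have hsj : ι (g s) ^ j * (ι (g s) ^ j)⁻¹ = 1 := mul_inv_cancel₀ (pow_ne_zero _ hs)
        linear_combination (-(ι (g (c i)) * ι (g a) ^ i * (ι (g s))⁻¹ ^ i)) * hsj
    obtain ⟨y, hy⟩ := IsIntegrallyClosed.isIntegral_iff.1 hint
    refine ⟨y, IsFractionRing.injective _ K ?_⟩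
    have he1 : g e = 1 := by
      have := congrArg g hes
      rw [map_mul] at this
      exact mul_eq_right₀ hx |>.1 this
    show ι (y * g s) = ι (g (e * a))
    rw [map_mul g, he1, one_mul, map_mul]
    show algebraMap _ K y * _ = _
    rw [hy, div_mul_cancel₀ _ hs]
  choose y hy using hloc
  let gq : ∀ x : W, X.presheaf.stalk x.1 := fun x => if X.presheaf.germ W x.1 x.2 s = 0 then 0 else y x
  obtain ⟨q, hq⟩ := exists_glue W gq fun x => by
    by_cases hx : X.presheaf.germ W x.1 x.2 s = 0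
    · obtain ⟨N, hxN, hle, h⟩ := exists_eq_zero_nhd W s x hx
      exact ⟨N, hxN, hle, 0, fun z hz => by rw [map_zero]; exact (if_pos (h z hz)).symm⟩
    · obtain ⟨N, hxN, hle, h⟩ := exists_ne_zero_nhd (fun x => (hX x).1) W s x hx
      obtain ⟨M, hxM, d, hd⟩ := TopCat.Presheaf.exists_germ_eq X.presheaf (y x)
      have e1 : X.presheaf.germ M x.1 hxM d * X.presheaf.germ W x.1 x.2 s = X.presheaf.germ W x.1 x.2 (e * a) := by
        rw [hd]; exact hy x
      let P := M ⊓ N
      let d' := X.presheaf.map (homOfLE (inf_le_left : P ≤ M)).op d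
      let s' := X.presheaf.map (homOfLE ((inf_le_right : P ≤ N).trans hle)).op s
      let a' := X.presheaf.map (homOfLE ((inf_le_right : P ≤ N).trans hle)).op (e * a)
      have e2 : X.presheaf.germ P x.1 ⟨hxM, hxN⟩ (d' * s') = X.presheaf.germ P x.1 ⟨hxM, hxN⟩ a' := by
        rw [map_mul]
        simp only [d', s', a', X.presheaf.germ_res_apply]
        exact e1
      obtain ⟨Q, hxQ, i, j, hQ⟩ := X.presheaf.germ_eq x.1 _ _ _ _ e2
      refine ⟨Q, hxQ, i.le.trans ((inf_le_right : P ≤ N).trans hle), X.presheaf.map i.op d', fun z hz => ?_⟩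
      have hzW : z ∈ W := i.le.trans ((inf_le_right : P ≤ N).trans hle) hz
      show _ = gq ⟨z, hzW⟩
      haveI := (hX z).1
      have hne : X.presheaf.germ W z hzW s ≠ 0 := h z (i.le hz).2
      rw [show gq ⟨z, hzW⟩ = y ⟨z, hzW⟩ from if_neg hne]
      refine mul_right_cancel₀ hne ?_
      rw [hy ⟨z, hzW⟩]
      have e3 := congrArg (X.presheaf.germ Q z hz) hQ
      simp only [X.presheaf.germ_res_apply] at e3 ⊢
      rw [map_mul] at e3
      simp only [d', s', a', X.presheaf.germ_res_apply] at e3 ⊢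
      exact e3
  refine ⟨e, q, he, hes, TopCat.Presheaf.section_ext X.sheaf _ _ _ fun z hz => ?_⟩
  show X.presheaf.germ W z hz (q * s) = X.presheaf.germ W z hz (e * a)
  rw [map_mul, hq ⟨z, hz⟩]
  by_cases h : X.presheaf.germ W z hz s = 0
  · rw [show gq ⟨z, hz⟩ = 0 from if_pos h, zero_mul, map_mul, hez ⟨z, hz⟩ h, zero_mul]
  · rw [show gq ⟨z, hz⟩ = y ⟨z, hz⟩ from if_neg h, hy]

/-- a localization at a prime of a ring with these two properties is a normal domain -/
theorem normal_localization {A R : Type u} [CommRing A] [CommRing R] [Algebra A R] (p : Ideal A) [p.IsPrime]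
    [IsLocalization.AtPrime R p]
    (hD : ∀ a b : A, a * b = 0 → ∃ e : A, IsIdempotentElem e ∧ e * a = a ∧ e * b = 0)
    (hI : ∀ (a s : A) (n : ℕ) (c : ℕ → A), a ^ n + ∑ i ∈ Finset.range n, c i * a ^ i * s ^ (n - i) = 0 →
      ∃ e q : A, IsIdempotentElem e ∧ e * s = s ∧ q * s = e * a) :
    IsDomain R ∧ IsIntegrallyClosed R := by
  classical
  haveI : IsLocalRing R := IsLocalization.AtPrime.isLocalRing R p
  let ι := algebraMap A R
  have hidem : ∀ e : A, IsIdempotentElem e → ι e = 0 ∨ ι e = 1 := fun e he => by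
    rcases IsLocalRing.isUnit_or_isUnit_one_sub_self (ι e) with h | h
    · right
      exact h.mul_left_cancel (by rw [mul_one, ← map_mul, he.eq])
    · left
      refine h.mul_left_cancel (b := ι e) (c := 0) ?_
      rw [mul_zero, sub_mul, one_mul, ← map_mul, he.eq, sub_self]
  haveI : Nontrivial R := inferInstance
  have hnzd : NoZeroDivisors R := ⟨fun {x y} hxy => by
    obtain ⟨⟨a, s⟩, rfl⟩ := IsLocalization.mk'_surjective p.primeCompl x
    obtain ⟨⟨b, t⟩, rfl⟩ := IsLocalization.mk'_surjective p.primeCompl y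
    rw [← IsLocalization.mk'_mul, IsLocalization.mk'_eq_zero_iff] at hxy
    obtain ⟨u, hu⟩ := hxy
    obtain ⟨e, he, hea, heb⟩ := hD (u * a) b (by rw [mul_assoc]; exact hu)
    have hu1 : IsUnit (ι u) := IsLocalization.map_units R u
    rcases hidem e he with h | h
    · left
      refine (IsLocalization.mk'_eq_mul_mk'_one a s).trans ?_
      have h' := congrArg ι hea
      rw [map_mul, h, zero_mul, map_mul] at h'
      rw [show algebraMap A R a = 0 from hu1.mul_right_eq_zero.1 h'.symm, zero_mul]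
    · right
      refine (IsLocalization.mk'_eq_mul_mk'_one b t).trans ?_
      have h' := congrArg ι heb
      rw [map_mul, h, one_mul, map_zero] at h'
      rw [show algebraMap A R b = 0 from h', zero_mul]⟩
  haveI : IsDomain R := NoZeroDivisors.to_isDomain R
  refine ⟨inferInstance, (isIntegrallyClosed_iff (FractionRing R)).2 fun {x} hx => ?_⟩
  let K := FractionRing R
  obtain ⟨x₁, x₂, hx₂, rfl⟩ := IsFractionRing.div_surjective R x
  obtain ⟨⟨a₀, s₁⟩, hx₁⟩ := IsLocalization.mk'_surjective p.primeCompl x₁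
  obtain ⟨⟨t₀, s₂⟩, ht₀⟩ := IsLocalization.mk'_surjective p.primeCompl x₂
  have e1 : x₁ * ι s₁ = ι a₀ := by rw [← hx₁]; exact IsLocalization.mk'_spec R a₀ s₁
  have e2 : x₂ * ι s₂ = ι t₀ := by rw [← ht₀]; exact IsLocalization.mk'_spec R t₀ s₂
  have hx₂0 : x₂ ≠ 0 := nonZeroDivisors.ne_zero hx₂
  obtain ⟨a, s, hs0, hxe⟩ : ∃ a s : A, ι s ≠ 0 ∧
      algebraMap R K x₁ / algebraMap R K x₂ * algebraMap R K (ι s) = algebraMap R K (ι a) := by
    refine ⟨a₀ * s₂, t₀ * s₁, ?_, ?_⟩
    · rw [map_mul, ← e2]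
      exact mul_ne_zero (mul_ne_zero hx₂0 (IsLocalization.map_units R s₂).ne_zero) (IsLocalization.map_units R s₁).ne_zero
    · have : algebraMap R K x₂ ≠ 0 := (map_ne_zero_iff _ (IsFractionRing.injective R K)).2 hx₂0
      rw [map_mul ι, map_mul ι, ← e1, ← e2, map_mul, map_mul, map_mul, map_mul]
      rw [div_mul_eq_mul_div, div_eq_iff this]; ring
  generalize algebraMap R K x₁ / algebraMap R K x₂ = x at hx hxe ⊢
  obtain ⟨P, hPm, hP⟩ := hx
  set n := P.natDegree
  obtain ⟨⟨u, hu⟩, hint⟩ := IsLocalization.exist_integer_multiples_of_finset p.primeCompl ((Finset.range n).image P.coeff)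
  choose c hc using fun i : Finset.range n => hint (P.coeff i) (Finset.mem_image_of_mem _ i.2)
  have hc' : ∀ i : Finset.range n, ι (c i) = ι u * P.coeff i := fun i => by
    exact (hc i).trans (Algebra.smul_def u _)
  let c' : ℕ → A := fun i => if h : i ∈ Finset.range n then c ⟨i, h⟩ * u ^ (n - i - 1) else 0
  have hz : ι ((u * a) ^ n + ∑ i ∈ Finset.range n, c' i * (u * a) ^ i * s ^ (n - i)) = 0 := by
    apply IsFractionRing.injective R K
    rw [map_zero, map_add, map_add, map_sum, map_sum]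
    rw [← Polynomial.aeval_def, Polynomial.aeval_eq_sum_range, Finset.sum_range_succ, hPm.coeff_natDegree, one_smul] at hP
    have h2 := congrArg (fun t => t * (algebraMap R K (ι u) ^ n * algebraMap R K (ι s) ^ n)) hP
    simp only [zero_mul, add_mul, Finset.sum_mul] at h2
    rw [← h2, add_comm]
    congr 1
    · refine Finset.sum_congr rfl fun i hi => ?_
      obtain ⟨j, hj⟩ : ∃ j, n = i + (j + 1) := ⟨n - i - 1, by have := Finset.mem_range.1 hi; omega⟩
      rw [show c' i = c ⟨i, hi⟩ * u ^ (n - i - 1) from dif_pos hi]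
      simp only [map_mul, map_pow, hc' ⟨i, hi⟩, ← hxe, Algebra.smul_def]
      rw [show n - i - 1 = j by omega, show n - i = j + 1 by omega, show algebraMap R K (ι u) ^ n = algebraMap R K (ι u) ^ i * algebraMap R K (ι u) ^ (j + 1) by rw [← pow_add, ← hj], show algebraMap R K (ι s) ^ n = algebraMap R K (ι s) ^ i * algebraMap R K (ι s) ^ (j + 1) by rw [← pow_add, ← hj]]
      ring
    · rw [map_pow, map_pow, map_mul, map_mul, ← hxe]
      ring
  obtain ⟨⟨w, hw⟩, hwz⟩ := (IsLocalization.map_eq_zero_iff p.primeCompl R _).1 hz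
  obtain ⟨e, q, he, hes, hq⟩ := hI (w * (u * a)) s n
    (fun i => c' i * w ^ (n - i)) (by
      rcases Nat.eq_zero_or_pos n with h0 | h0
      · rw [h0] at hwz
        simp only [pow_zero, Finset.range_zero, Finset.sum_empty, add_zero, mul_one] at hwz
        exact absurd (hwz ▸ Ideal.zero_mem p) hw
      have : (w * (u * a)) ^ n + ∑ i ∈ Finset.range n, c' i * w ^ (n - i) * (w * (u * a)) ^ i * s ^ (n - i) =
          w ^ n * ((u * a) ^ n + ∑ i ∈ Finset.range n, c' i * (u * a) ^ i * s ^ (n - i)) := by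
        rw [mul_add, mul_pow, Finset.mul_sum]
        congr 1
        refine Finset.sum_congr rfl fun i hi => ?_
        obtain ⟨j, hj⟩ : ∃ j, n = i + j := ⟨n - i, by have := Finset.mem_range.1 hi; omega⟩
        rw [hj, Nat.add_sub_cancel_left, mul_pow, pow_add]; ring
      rw [this, show n = (n - 1) + 1 by omega, pow_succ, mul_assoc, show (n - 1) + 1 = n by omega, hwz, mul_zero])
  have he1 : ι e = 1 := (hidem e he).resolve_left fun h => hs0 (by rw [← hes, map_mul, h, zero_mul])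
  have h4 := congrArg ι hq
  rw [map_mul, map_mul, he1, one_mul, map_mul, map_mul] at h4
  obtain ⟨v, hv⟩ := (IsLocalization.map_units R (⟨w, hw⟩ : p.primeCompl)).mul (IsLocalization.map_units R (⟨u, hu⟩ : p.primeCompl))
  refine ⟨ι q * ↑v⁻¹, ?_⟩
  refine mul_right_cancel₀ ((map_ne_zero_iff _ (IsFractionRing.injective R K)).2 hs0) ?_
  rw [hxe, ← map_mul, mul_right_comm, h4, show ι w * (ι u * ι a) = ι a * (v : R) by rw [hv]; ring, mul_assoc, v.mul_inv, mul_one]

theorem isNormalScheme {Y : Scheme.{u}} (f : X ⟶ Y) (hfib : ∀ V : Y.Opens, IsIso (f.app V))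
    (hX : Pi1.IsNormalScheme X) : Pi1.IsNormalScheme Y := by
  intro y
  obtain ⟨_, ⟨V, hV, rfl⟩, hyV, -⟩ := Y.isBasis_affineOpens.exists_subset_of_mem_open (Set.mem_univ y) isOpen_univ
  letI := Y.presheaf.algebra_section_stalk ⟨y, hyV⟩
  haveI : IsLocalization.AtPrime (Y.presheaf.stalk y) (hV.primeIdealOf ⟨y, hyV⟩).asIdeal := hV.isLocalization_stalk ⟨y, hyV⟩
  haveI := hfib V
  let φ : Γ(Y, V) ≃+* Γ(X, f ⁻¹ᵁ V) := (asIso (f.app V)).commRingCatIsoToRingEquiv
  refine normal_localization (A := Γ(Y, V)) (hV.primeIdealOf ⟨y, hyV⟩).asIdeal (fun a b hab => ?_) fun a s n c hrel => ?_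
  · obtain ⟨e, he, hea, hez⟩ := exists_idem (fun x => (hX x).1) (f ⁻¹ᵁ V) (φ a)
    refine ⟨φ.symm e, he.map φ.symm, φ.injective (by simp [hea]), φ.injective ?_⟩
    rw [map_mul, φ.apply_symm_apply, map_zero]
    refine TopCat.Presheaf.section_ext X.sheaf _ _ _ fun z hz => ?_
    show X.presheaf.germ _ z hz _ = X.presheaf.germ _ z hz 0
    rw [map_mul, map_zero]
    haveI := (hX z).1
    have h := congrArg (fun t => X.presheaf.germ _ z hz (φ t)) hab
    simp only [map_mul, map_zero] at h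
    rcases mul_eq_zero.1 h with h | h
    · rw [hez ⟨z, hz⟩ h, zero_mul]
    · rw [h, mul_zero]
  · obtain ⟨e, q, he, hes, hq⟩ := exists_quot hX (f ⁻¹ᵁ V) (φ a) (φ s) n (fun i => φ (c i))
      (by simpa using congrArg φ hrel)
    exact ⟨φ.symm e, φ.symm q, he.map φ.symm, φ.injective (by simp [hes]), φ.injective (by simp [hq])⟩

end NormalPushW15
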